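import Mathlib
import Groth.Prelude.Def_RegImm
import Groth.Agent.QRegLib.Basic
import Groth.Agent.QReg16Lib.Basic
import Groth.Agent.RegKindDescLib.Ring
import Groth.Agent.RelDivLib.FlatSeq
import Groth.Agent.RelDivLib.QuasiFlat
import Groth.Agent.RelDivLib.ImmBC
import Groth.Agent.CILib.KoszulCalc
import Groth.Agent.ConormalSplitLib.Ring

/-!
# Regular sequences modulo a split part
-/

set_option autoImplicit false
set_option backward.isDefEq.respectTransparency false
set_option linter.style.haveILetI false

universe u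

open MvPolynomial Groth.Agent

namespace Groth.Agent.SplitQuotLib

variable {A : Type u} [CommRing A]

/-- Part of a quasi-regular family is quasi-regular modulo the rest. -/
theorem qMod_split {c : ℕ} {q : Fin c → A} (hq : CAlgX.IsQuasiRegular q) :
    ∀ T : Finset (Fin c), QRegLib.QMod q (Ideal.span (q '' T)) (Ideal.span (Set.range q)) {i | i ∉ T} := by
  classical
  intro T
  induction T using Finset.induction with
  | empty =>
    intro n P hP _ hv
    refine hq n P hP ?_
    rw [Finset.coe_empty, Set.image_empty, Ideal.span_empty, Submodule.mem_bot] at hv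
    rw [hv]
    exact zero_mem _
  | insert a T ha ih =>
    have hJ : Ideal.span (Set.range q) = Ideal.span (q '' (T : Set (Fin c))) ⊔ Ideal.span (q '' {i | i ∉ T}) := by
      rw [← Ideal.span_union, ← Set.image_union, ← Set.image_univ]
      congr 2
      ext i
      by_cases h : i ∈ T <;> simp [h]
    have h := QRegLib.qMod_step q ih hJ (a := a) ha
    rw [show {i : Fin c | i ∉ T} \ {a} = {i | i ∉ insert a T} by ext i; simp; tauto] at h
    rwa [Finset.coe_insert, Set.image_insert_eq, Ideal.span_insert, sup_comm]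

/-- A quasi-regular sequence stays quasi-regular modulo part of it. -/
theorem isQuasiRegular_quot {B : Type u} [CommRing B] (φ : A →+* B) (hφ : Function.Surjective φ) {a b : ℕ}
    (g : Fin a → A) (f : Fin b → A) (hker : RingHom.ker φ = Ideal.span (Set.range f))
    (hq : CAlgX.IsQuasiRegular (Fin.append g f)) : CAlgX.IsQuasiRegular fun i => φ (g i) := by
  classical
  let q := Fin.append g f
  let T : Finset (Fin (a + b)) := Finset.univ.image (Fin.natAdd a)
  have hT : Ideal.span (q '' (T : Set (Fin (a + b)))) = RingHom.ker φ := by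
    rw [hker]; congr 1; ext x; simp [T, q]
  have hS : {i : Fin (a + b) | i ∉ T} = Set.range (Fin.castAdd b) := by
    ext i
    induction i using Fin.addCases with
    | left i =>
      refine iff_of_true (fun h => ?_) ⟨i, rfl⟩
      obtain ⟨k, -, hk⟩ := Finset.mem_image.1 h
      have := congrArg Fin.val hk
      simp at this
      omega
    | right i =>
      refine iff_of_false (fun h => h (Finset.mem_image_of_mem _ (Finset.mem_univ i))) ?_
      rintro ⟨k, hk⟩
      have := congrArg Fin.val hk
      simp at this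
      omega
  have hgS : q '' {i : Fin (a + b) | i ∉ T} = Set.range g := by
    rw [hS, ← Set.range_comp]; congr 1; funext i; simp [q]
  have hspan : Ideal.span (Set.range fun i => φ (g i)) = (Ideal.span (Set.range g)).map φ := by
    rw [Ideal.map_span, ← Set.range_comp]; rfl
  intro n P hP hv d
  obtain ⟨P₀, rfl⟩ := MvPolynomial.map_surjective φ hφ P
  -- a homogeneous lift
  let P₁ := homogeneousComponent n P₀
  have hmap : MvPolynomial.map φ P₁ = MvPolynomial.map φ P₀ := by
    ext e
    rw [coeff_map, coeff_map, coeff_homogeneousComponent]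
    split_ifs with he
    · rfl
    · have h0 := hP.coeff_eq_zero (d := e) he
      rw [coeff_map] at h0
      rw [map_zero, h0]
  rw [← hmap] at hv ⊢
  let P₂ := rename (Fin.castAdd b) P₁
  have hP₂ : P₂.IsHomogeneous n := (homogeneousComponent_isHomogeneous n P₀).rename_isHomogeneous
  have hS₂ : QRegLib.SuppIn P₂ {i : Fin (a + b) | i ∉ T} := fun e he i hi => by
    obtain ⟨e', rfl, -⟩ := coeff_rename_ne_zero _ _ _ he
    rw [hS]
    have := Finsupp.mapDomain_support hi
    obtain ⟨j, -, rfl⟩ := Finset.mem_image.1 this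
    exact ⟨j, rfl⟩
  have heval : eval q P₂ = eval g P₁ := by
    rw [eval_rename]; congr 2; funext i; simp [q]
  have hval : eval q P₂ ∈ Ideal.span (q '' (T : Set (Fin (a + b)))) ⊔ Ideal.span (q '' {i | i ∉ T}) ^ (n + 1) := by
    rw [hT, hgS, heval]
    rw [hspan, ← Ideal.map_pow, show (fun i => φ (g i)) = φ ∘ g from rfl, ← map_eval φ g P₁] at hv
    obtain ⟨w, hw, hwe⟩ := (Ideal.mem_map_iff_of_surjective φ hφ).1 hv
    rw [show eval g P₁ = (eval g P₁ - w) + w by ring]
    exact Submodule.add_mem_sup (by rw [RingHom.mem_ker, map_sub, hwe, sub_self]) hw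
  have hJ : Ideal.span (q '' {i | i ∉ T}) ≤ Ideal.span (Set.range q) := Ideal.span_mono (Set.image_subset_range _ _)
  have h := QRegLib.coeff_mem_of_eval_mem q _ _ {i | i ∉ T} n hJ (qMod_split hq T n) P₂ hP₂ hS₂ hval
    (d.mapDomain (Fin.castAdd b))
  rw [coeff_rename_mapDomain _ (Fin.castAdd_injective a b)] at h
  rw [coeff_map, hspan]
  have h' : P₁.coeff d ∈ Ideal.span (Set.range g) ⊔ RingHom.ker φ := by
    refine (Ideal.span_le.2 ?_ : Ideal.span (Set.range q) ≤ _) h
    rintro _ ⟨i, rfl⟩
    induction i using Fin.addCases with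
    | left i => exact Ideal.mem_sup_left (Ideal.subset_span ⟨i, by simp [q]⟩)
    | right i => exact Ideal.mem_sup_right (by rw [hker]; exact Ideal.subset_span ⟨i, by simp [q]⟩)
  have h'' := Ideal.mem_map_of_mem φ h'
  rwa [Ideal.map_sup, (Ideal.map_eq_bot_iff_le_ker φ).2 le_rfl, sup_bot_eq] at h''

/-- An H₁-regular sequence stays H₁-regular modulo part of it. -/
theorem isH1Regular_quot {B : Type u} [CommRing B] (φ : A →+* B) (hφ : Function.Surjective φ) {a b : ℕ}
    (g : Fin a → A) (f : Fin b → A) (hker : RingHom.ker φ = Ideal.span (Set.range f))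
    (hq : CAlgX.IsH1Regular (Fin.append g f)) : CAlgX.IsH1Regular fun i => φ (g i) := by
  classical
  intro x hx
  choose x' hx' using fun i => hφ (x i)
  have h0 : ∑ i, x' i * g i ∈ Ideal.span (Set.range f) := by
    rw [← hker, RingHom.mem_ker, map_sum]
    simpa [map_mul, hx'] using hx
  obtain ⟨y, hy⟩ := Ideal.mem_span_range_iff_exists_fun.1 h0
  have hv := hq (Fin.append x' fun k => - y k) (by
    rw [Fin.sum_univ_add]
    simp [neg_mul, Finset.sum_neg_distrib, hy])
  let π : (Fin (a + b) → A) →+ (Fin a → B) :=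
    AddMonoidHom.mk' (fun v i => φ (v (Fin.castAdd b i))) (fun v w => funext fun i => map_add φ _ _)
  have hx0 : x = π (Fin.append x' fun k => - y k) := funext fun i => by simp [π, hx']
  rw [hx0]
  clear hx0
  generalize (Fin.append x' fun k => - y k) = v at hv ⊢
  induction hv using Submodule.span_induction with
  | zero => rw [map_zero]; exact zero_mem _
  | add v w _ _ hv hw => rw [map_add]; exact add_mem hv hw
  | smul r v _ hv =>
    rw [show π (r • v) = φ r • π v from funext fun i => map_mul φ _ _]
    exact Submodule.smul_mem _ _ hv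
  | mem v hv =>
    obtain ⟨i, j, rfl⟩ := hv
    induction i using Fin.addCases with
    | left i =>
      induction j using Fin.addCases with
      | left j =>
        refine Submodule.subset_span ⟨i, j, funext fun k => ?_⟩
        simp [π, Pi.single_apply, apply_ite φ]
      | right j =>
        have h1 : φ (f j) = 0 := by rw [← RingHom.mem_ker, hker]; exact Ideal.subset_span ⟨j, rfl⟩
        refine Eq.subst (motive := fun w => w ∈ _) (funext fun k => ?_) (zero_mem (Submodule.span B _))
        simp [π, Pi.single_apply, apply_ite φ, h1, Fin.ext_iff]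
        omega
    | right i =>
      have h1 : φ (f i) = 0 := by rw [← RingHom.mem_ker, hker]; exact Ideal.subset_span ⟨i, rfl⟩
      refine Eq.subst (motive := fun w => w ∈ _) (funext fun k => ?_) (zero_mem (Submodule.span B _))
      induction j using Fin.addCases with
      | left j =>
        simp [π, Pi.single_apply, apply_ite φ, h1, Fin.ext_iff]
        omega
      | right j =>
        simp [π, Pi.single_apply, Fin.ext_iff]
        rw [if_neg (by omega), if_neg (by omega)]
        simp

/-- No longer generating sequences of a quasi-regular ideal are quasi-regular. -/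
theorem isQuasiRegular_of_span_eq {c c' : ℕ} (f' : Fin c' → A) {f : Fin c → A} (hf : CAlgX.IsQuasiRegular f)
    (he : Ideal.span (Set.range f') = Ideal.span (Set.range f)) (hc : c' ≤ c) : CAlgX.IsQuasiRegular f' := by
  obtain ⟨e, rfl⟩ := Nat.exists_eq_add_of_le hc
  rcases Nat.eq_zero_or_pos e with rfl | hpos
  · exact QReg16Lib.isQuasiRegular_of_span_eq f f' hf he
  let f'' : Fin (c' + e) → A := Fin.append f' 0
  have hspan : Ideal.span (Set.range f'') = Ideal.span (Set.range f') := by
    refine le_antisymm (Ideal.span_le.2 ?_) (Ideal.span_mono ?_)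
    · rintro _ ⟨i, rfl⟩
      induction i using Fin.addCases with
      | left i => exact Ideal.subset_span ⟨i, by simp [f'']⟩
      | right i => simp [f'']
    · rintro _ ⟨i, rfl⟩; exact ⟨Fin.castAdd e i, by simp [f'']⟩
  have hq := QReg16Lib.isQuasiRegular_of_span_eq f f'' hf (hspan.trans he)
  have h0 : f'' (Fin.natAdd c' ⟨0, hpos⟩) = 0 := by simp [f'', Fin.append_right, -Fin.natAdd_mk]
  have h1 := RegKindDescLib.coeff_mem_of_isQuasiRegular hq (Pi.single (Fin.natAdd c' ⟨0, hpos⟩) 1)
    (by simp [Pi.single_apply, h0, -Fin.natAdd_mk]) (Fin.natAdd c' ⟨0, hpos⟩)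
  rw [Pi.single_eq_same, hspan, ← Ideal.eq_top_iff_one] at h1
  intro n P _ _ d
  rw [h1]
  trivial

theorem isH1Regular_of_span_eq_of_le {c c' : ℕ} (f' : Fin c' → A) {f : Fin c → A} (hf : CAlgX.IsH1Regular f)
    (he : Ideal.span (Set.range f') = Ideal.span (Set.range f)) (hc : c' ≤ c) : CAlgX.IsH1Regular f' := by
  refine RegKindDescLib.isH1Regular_of_localization fun m _ => ?_
  refine RegKindDescLib.isH1Regular_of_span_eq
    (RelDivLib.isQuasiRegular_map m.primeCompl
      (isQuasiRegular_of_span_eq f' (RelDivLib.isQuasiRegular_of_isH1Regular hf) he hc))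
    (RelDivLib.isH1Regular_map m.primeCompl hf) ?_
  have := congrArg (Ideal.map (algebraMap A (Localization.AtPrime m))) he
  rwa [Ideal.map_span, Ideal.map_span, ← Set.range_comp, ← Set.range_comp] at this

/-- Regular sequences of kind `k` modulo part of them. -/
theorem seq_quot (k : RegImm.Kind) (hk : k ≠ RegImm.Kind.regular) {B : Type u} [CommRing B] (φ : A →+* B)
    (hφ : Function.Surjective φ) (g f hs : List A) (hker : RingHom.ker φ = Ideal.ofList f) (hhs : k.Seq A hs)
    (hf : k = RegImm.Kind.koszul → LCI.IsKoszulRegularSeq A f)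
    (hspan : Ideal.ofList (g ++ f) = Ideal.ofList hs) (hlen : g.length + f.length ≤ hs.length) :
    k.Seq B (g.map φ) := by
  have hap : List.ofFn (Fin.append g.get f.get) = g ++ f := by
    rw [List.ofFn_fin_append, List.ofFn_get, List.ofFn_get]
  have hrange : Ideal.span (Set.range (Fin.append g.get f.get)) = Ideal.span (Set.range hs.get) := by
    rw [← RegIdealLib.ofList_ofFn, hap, hspan, RegKindDescLib.range_get]
  have hg : g.map φ = List.ofFn fun i => φ (g.get i) := by
    conv_lhs => rw [← List.ofFn_get g]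
    rw [List.map_ofFn]
    rfl
  have hker' : RingHom.ker φ = Ideal.span (Set.range f.get) := by rw [hker, RegKindDescLib.range_get]
  match k, hk with
  | .regular, hk => exact absurd rfl hk
  | .koszul, _ =>
    letI := φ.toAlgebra
    exact (CILib.isKoszulRegularSeq_append_iff f (hf rfl) hφ hker g).1
      (CILib.isKoszulRegularSeq_of_ofList_eq hhs hspan (by simpa using hlen))
  | .h1, _ =>
    rw [hg, RelDivLib.seq_ofFn .h1 (Or.inl rfl)]
    exact isH1Regular_quot φ hφ _ _ hker' (isH1Regular_of_span_eq_of_le _ hhs hrange hlen)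
  | .quasi, _ =>
    rw [hg, RelDivLib.seq_ofFn .quasi (Or.inr rfl)]
    exact isQuasiRegular_quot φ hφ _ _ hker' (isQuasiRegular_of_span_eq _ hhs hrange hlen)

/-- A split part of a regular ideal: near the prime the rest is regular modulo it. -/
theorem exists_quot (k : RegImm.Kind) (hk : k ≠ RegImm.Kind.regular) (P : Ideal A) [P.IsPrime] (hs fs : List A)
    (hhs : k.Seq A hs) (hfs : k = RegImm.Kind.koszul → LCI.IsKoszulRegularSeq A fs)
    (c : Fin fs.length → Fin hs.length → A) (d : Fin hs.length → Fin fs.length → A)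
    (hc : ∀ i, fs.get i = ∑ l, c i l * hs.get l)
    (hcd : ∀ i m, (∑ l, c i l * d l m) - (if i = m then 1 else 0) ∈ P) :
    ∃ s ∉ P, ∃ g : List A, ∀ {D E : Type u} [CommRing D] [CommRing E] (ρ : A →+* D) (φ : D →+* E),
      ρ.Flat → IsUnit (ρ s) → Function.Surjective φ → RingHom.ker φ = Ideal.ofList (fs.map ρ) →
        k.Seq E ((g.map ρ).map φ) ∧ (Ideal.ofList (hs.map ρ)).map φ = Ideal.ofList ((g.map ρ).map φ) := by
  obtain ⟨g, s, hsP, hlen, hg, hgen⟩ := ConormalSplitLib.exists_gens P fs.get hs.get c d hc hcd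
  rw [RegKindDescLib.range_get] at hg
  simp only [RegKindDescLib.range_get] at hgen
  refine ⟨s, hsP, g, ?_⟩
  intro D E _ _ ρ φ hρ hu hφ hker
  have hfle : Ideal.ofList fs ≤ Ideal.ofList hs := by
    rw [← RegKindDescLib.range_get fs, ← RegKindDescLib.range_get hs, Ideal.span_le]
    rintro _ ⟨i, rfl⟩
    rw [SetLike.mem_coe, hc]
    exact Ideal.sum_mem _ fun l _ => Ideal.mul_mem_left _ _ (Ideal.subset_span ⟨l, rfl⟩)
  have hspan : Ideal.ofList (g.map ρ ++ fs.map ρ) = Ideal.ofList (hs.map ρ) := by
    rw [Ideal.ofList_append, ← Ideal.map_ofList ρ g, ← Ideal.map_ofList ρ fs, ← Ideal.map_sup, ← Ideal.map_ofList ρ hs]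
    refine le_antisymm (Ideal.map_mono (sup_le (Ideal.span_le.2 hg) hfle)) ?_
    rw [Ideal.map_ofList, Ideal.ofList, Ideal.span_le]
    intro y hy
    obtain ⟨a, ha, rfl⟩ := List.mem_map.1 (show y ∈ hs.map ρ from hy)
    obtain ⟨l, rfl⟩ := List.get_of_mem ha
    have h1 := Ideal.mem_map_of_mem ρ (hgen l)
    rw [map_mul] at h1
    exact (Ideal.unit_mul_mem_iff_mem _ hu).1 h1
  refine ⟨seq_quot k hk φ hφ _ _ (hs.map ρ) hker (RelDivLib.seq_flat ρ hρ k hk hhs)
    (fun h => RelDivLib.seq_flat ρ hρ .koszul (by decide) (hfs h)) hspan (by simpa using hlen), ?_⟩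
  rw [← hspan, Ideal.ofList_append, Ideal.map_sup, ← hker, (Ideal.map_eq_bot_iff_le_ker φ).2 le_rfl, sup_bot_eq,
    Ideal.map_ofList]

end Groth.Agent.SplitQuotLib
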