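import Mathlib
import Groth.Agent.ConormalSplitLib.Scheme
import Groth.Agent.SplitQuotLib.Ring
import Groth.Agent.RegKindDescLib.Scheme
import Groth.Agent.RegKindLib.Basic
import Groth.Agent.PullbackMod.Hom

/-!
# Regular immersions from a split conormal sequence, without regularity of the outer immersion
-/

set_option autoImplicit false
set_option backward.isDefEq.respectTransparency false
set_option backward.defeqAttrib.useBackward true
set_option linter.style.haveILetI false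
set_option maxHeartbeats 1000000

universe u

open CategoryTheory CategoryTheory.Limits AlgebraicGeometry TopologicalSpace Opposite Groth.Agent

namespace Groth.Agent.SplitQuotLib

/-- A section over an open gives linear sections on smaller opens. -/
theorem exists_section {Z : Scheme.{u}} {M C : Z.Modules} (ψ : M ⟶ C) {U : Z.Opens}
    (r : (Scheme.Modules.restrictFunctor U.ι).obj C ⟶ (Scheme.Modules.restrictFunctor U.ι).obj M)
    (hr : r ≫ (Scheme.Modules.restrictFunctor U.ι).map ψ = 𝟙 _) {W : Z.Opens} (hW : W ≤ U) :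
    ∃ R : Γ(C, W) →ₗ[Γ(Z, W)] Γ(M, W), ∀ x, ψ.app W (R x) = x := by
  have key : ∀ V : U.toScheme.Opens, ∃ R : Γ(C, U.ι ''ᵁ V) →ₗ[Γ(Z, U.ι ''ᵁ V)] Γ(M, U.ι ''ᵁ V),
      ∀ x, ψ.app _ (R x) = x := by
    intro V
    refine ⟨{ toFun := fun x => r.app V x, map_add' := fun x y => map_add _ _ _, map_smul' := fun t x => ?_ },
      fun x => congr($(hr).app V x)⟩
    obtain ⟨t, rfl⟩ := (ConcreteCategory.bijective_of_isIso (U.ι.appIso V).inv).2 t
    exact Scheme.Modules.Hom.app_smul r t x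
  have h := key (U.ι ⁻¹ᵁ W)
  rwa [Scheme.Hom.image_preimage_eq_opensRange_inf, Scheme.Opens.opensRange_ι, inf_eq_right.2 hW] at h

variable {X Y Z : Scheme.{u}} {j : Z ⟶ Y} {i : Y ⟶ X} [QuasiCompact j] [QuasiCompact i] {U : X.Opens}
  (T : ConormalLib.Tower j i U)
  {a : (Scheme.Modules.pullback j).obj (Omega.conormal i) ⟶ Omega.conormal (j ≫ i)}
  (ha : OmegaSh.IsConormalMap (j ≫ i) i (𝟙 X) j a)

include T ha in
/-- A retraction of the first map gives a right inverse of the coefficient matrix up to `J I`. -/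
theorem exists_coeff_sum (R : Γ(Omega.conormal (j ≫ i), j ⁻¹ᵁ (i ⁻¹ᵁ U)) →ₗ[Γ(Z, j ⁻¹ᵁ (i ⁻¹ᵁ U))]
      Γ((Scheme.Modules.pullback j).obj (Omega.conormal i), j ⁻¹ᵁ (i ⁻¹ᵁ U)))
    (hR : ∀ x, R (a.app _ x) = x) {r n : ℕ} {f : Fin r → Γ(X, U)} {h : Fin n → Γ(X, U)}
    (hkf : RingHom.ker (i.app U).hom = Ideal.span (Set.range f))
    (hkh : RingHom.ker ((j ≫ i).app U).hom = Ideal.span (Set.range h)) :
    ∃ (c : Fin r → Fin n → Γ(X, U)) (d : Fin n → Fin r → Γ(X, U)), (∀ k, f k = ∑ l, c k l * h l) ∧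
      ∀ k, ∑ m, ((∑ l, c k l * d l m) - (if k = m then 1 else 0)) * f m ∈
        RingHom.ker ((j ≫ i).app U).hom * RingHom.ker (i.app U).hom := by
  classical
  have hle : RingHom.ker (i.app U).hom ≤ RingHom.ker ((j ≫ i).app U).hom := fun p hp => by
    show j.app (i ⁻¹ᵁ U) (i.app U p) = 0
    rw [show i.app U p = 0 from hp, map_zero]
  choose mf hmf using fun k => ConormalLib.exists_idealSect_eq i U (f k) (by
    rw [← RingHom.mem_ker, hkf]; exact Ideal.subset_span ⟨k, rfl⟩)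
  choose nh hnh using fun l => ConormalLib.exists_idealSect_eq (j ≫ i) U (h l) (by
    rw [← RingHom.mem_ker, hkh]; exact Ideal.subset_span ⟨l, rfl⟩)
  choose c hc using fun k => (Ideal.mem_span_range_iff_exists_fun (v := h) (x := f k)).1 (by
    rw [← hkh]; exact hle (by rw [hkf]; exact Ideal.subset_span ⟨k, rfl⟩))
  let cl : Γ(ClSub.idealMod (j ≫ i).ker, U) → Γ(Omega.conormal (j ≫ i), j ⁻¹ᵁ (i ⁻¹ᵁ U)) :=
    PullbackMod.pullMap (j ≫ i) (ClSub.idealMod (j ≫ i).ker) (W := U) (W' := j ⁻¹ᵁ (i ⁻¹ᵁ U)) le_rfl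
  choose x hx using fun l => T.exists_gen (R (cl (nh l)))
  choose d hd using fun l => (Ideal.mem_span_range_iff_exists_fun (v := f)
    (x := OmegaSh.idealSect i.ker U (x l))).1 (by rw [← hkf]; exact ConormalLib.app_idealSect i U (x l))
  refine ⟨c, d, fun k => (hc k).symm, fun k => ?_⟩
  obtain ⟨s, hs, he⟩ := ConormalLib.Tower.exists_a_apply ha (mf k)
  have hsum : s = ∑ l, c k l • nh l := OmegaAffLib.idealSect_injective _ U (by
    rw [hs, hmf, map_sum, ← hc k]
    exact Finset.sum_congr rfl fun l _ => by rw [OmegaAffLib.idealSect_smul, hnh])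
  have hpp : ConormalSplitLib.pp (j := j) U (∑ l, c k l • x l) = ConormalSplitLib.pp (j := j) U (mf k) := by
    rw [ConormalSplitLib.pp_sum_smul]
    refine Eq.trans ?_ ((congrArg R he).symm.trans (hR _))
    rw [hsum, map_sum, map_sum]
    refine Finset.sum_congr rfl fun l _ => ?_
    rw [show ConormalSplitLib.pp (j := j) U (x l) = R (cl (nh l)) from (hx l).symm]
    refine (LinearMap.map_smul R _ _).symm.trans ?_
    refine congrArg R ?_
    refine Eq.trans ?_ (PullbackMod.pullMap_smul (j ≫ i) (ClSub.idealMod (j ≫ i).ker) le_rfl (c k l) (nh l)).symm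
    rw [← Scheme.Hom.app_eq_appLE]
    rfl
  have h0 : ConormalSplitLib.pp (j := j) U (∑ l, c k l • x l - mf k) = 0 := by
    rw [ConormalSplitLib.pp, map_sub, map_sub, sub_eq_zero]
    exact hpp
  have h1 := ConormalSplitLib.mem_mul_of_pp_eq_zero T _ h0
  convert h1 using 1
  rw [map_sub, map_sum, hmf]
  simp only [sub_mul, Finset.sum_sub_distrib, Finset.sum_mul, ite_mul, one_mul, zero_mul,
    Finset.sum_ite_eq, Finset.mem_univ, if_true]
  rw [Finset.sum_comm]
  congr 1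
  refine Finset.sum_congr rfl fun l _ => ?_
  rw [OmegaAffLib.idealSect_smul, ← hd l, Finset.mul_sum]
  simp only [mul_assoc]

/-- Restriction of the kernel to a smaller affine open. -/
theorem ker_res {W : Scheme.{u}} (q : W ⟶ X) {V D : X.Opens} (hV : IsAffineOpen V) (hc : IsClosedImmersion (q ∣_ V))
    (hD : IsAffineOpen D) (e : D ≤ V) :
    RingHom.ker (q.app D).hom = (RingHom.ker (q.app V).hom).map ((𝟙 X : X ⟶ X).appLE V D e).hom := by
  have hsq : IsPullback (𝟙 W) q q (𝟙 X) := IsPullback.of_horiz_isIso ⟨by simp⟩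
  exact (RelDivLib.closed_and_ker_pullback hsq hV hc hD e).2

theorem flat_res {V D : X.Opens} (hV : IsAffineOpen V) (hD : IsAffineOpen D) (e : D ≤ V) :
    ((𝟙 X : X ⟶ X).appLE V D e).hom.Flat :=
  HasRingHomProperty.appLE (P := @Flat) (𝟙 X) inferInstance ⟨_, hV⟩ ⟨_, hD⟩ e

theorem isUnit_res {V : X.Opens} (s : Γ(X, V)) (e : X.basicOpen s ≤ V) :
    IsUnit (((𝟙 X : X ⟶ X).appLE V (X.basicOpen s) e).hom s) := by
  rw [show ((𝟙 X : X ⟶ X).appLE V (X.basicOpen s) e).hom = (X.presheaf.map (homOfLE e).op).hom by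
    simp [Scheme.Hom.appLE]]
  exact X.toRingedSpace.isUnit_res_basicOpen s

variable [IsImmersion j] [IsImmersion i] [LocallyOfFinitePresentation i]

include ha in
/-- Regularity of the composite passes to the inner immersion along a retraction of the conormal map. -/
theorem isRegularImmersionAt_of_retraction (k : RegImm.Kind) (hk : k ≠ RegImm.Kind.regular)
    (hki : k = RegImm.Kind.koszul → RegImm.IsRegularImmersion RegImm.Kind.koszul i)
    (z : Z) (hz : RegImm.IsRegularImmersionAt k (j ≫ i) z) (O : Z.Opens) (hzO : z ∈ O)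
    (hR : ∀ W : Z.Opens, W ≤ O → ∃ R : Γ(Omega.conormal (j ≫ i), W) →ₗ[Γ(Z, W)]
      Γ((Scheme.Modules.pullback j).obj (Omega.conormal i), W), ∀ x, R (a.app W x) = x) :
    RegImm.IsRegularImmersionAt k j z := by
  classical
  obtain ⟨⟨U₀, hU₀⟩, hz₀, hc₀, hs₀, hhs₀, hker₀⟩ := hz
  obtain ⟨U₁, T₁, hz₁, hpre₁, -, hk₁, hi₁⟩ := ConormalLib.exists_tower j i z hzO (O := i ⁻¹ᵁ U₀) hz₀
  -- candidates
  let Q : ℕ → Prop := fun r => ∃ (V : X.Opens), ConormalLib.Tower j i V ∧ i (j z) ∈ V ∧ j ⁻¹ᵁ (i ⁻¹ᵁ V) ≤ O ∧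
    V ≤ (j ≫ i).coborderRange ∧ V ≤ i.coborderRange ∧ V ≤ U₀ ∧
      (k = RegImm.Kind.koszul → ∃ l : List Γ(X, V), LCI.IsKoszulRegularSeq _ l ∧
        RingHom.ker (i.app V).hom = Ideal.ofList l) ∧
      ∃ f : Fin r → Γ(X, V), RingHom.ker (i.app V).hom = Ideal.span (Set.range f)
  have hex : ∃ r, Q r := by
    obtain ⟨V₂, hV₂, hz₂, hle₂, hkos⟩ : ∃ V : X.Opens, IsAffineOpen V ∧ i (j z) ∈ V ∧ V ≤ U₁ ⊓ U₀ ∧
        (k = RegImm.Kind.koszul → ∃ l : List Γ(X, V), LCI.IsKoszulRegularSeq _ l ∧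
          RingHom.ker (i.app V).hom = Ideal.ofList l) := by
      by_cases h : k = RegImm.Kind.koszul
      · obtain ⟨⟨V, hV⟩, hzV, hcV, l, hl, hkl⟩ := (hki h).2 (j z)
        obtain ⟨t, htU, hzt⟩ := hV.exists_basicOpen_le (V := U₁ ⊓ U₀) ⟨i (j z), ⟨hz₁, hz₀⟩⟩ hzV
        refine ⟨X.basicOpen t, hV.basicOpen t, hzt, htU, fun _ =>
          ⟨l.map ((𝟙 X : X ⟶ X).appLE V (X.basicOpen t) (X.basicOpen_le t)).hom,
            RelDivLib.seq_flat _ (flat_res hV (hV.basicOpen t) _) .koszul (by decide) hl, ?_⟩⟩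
        rw [ker_res i hV hcV (hV.basicOpen t) (X.basicOpen_le t), hkl, Ideal.map_ofList]
      · obtain ⟨_, ⟨V : X.Opens, hV, rfl⟩, hzV, hle⟩ := X.isBasis_affineOpens.exists_subset_of_mem_open
          (show i (j z) ∈ ((U₁ ⊓ U₀ : X.Opens) : Set X) from ⟨hz₁, hz₀⟩) (U₁ ⊓ U₀).2
        exact ⟨V, hV, hzV, hle, fun h' => absurd h' h⟩
    have hle1 : V₂ ≤ U₁ := hle₂.trans inf_le_left
    have T₂ := ConormalLib.tower_of_le j i hV₂ (hle1.trans hk₁) (hle1.trans hi₁)
    have hfg : (RingHom.ker (i.app V₂).hom).FG := by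
      have hfp : (i.appLE V₂ (i ⁻¹ᵁ V₂) le_rfl).hom.FinitePresentation :=
        LocallyOfFinitePresentation.finitePresentation_appLE (f := i) hV₂ T₂.affY le_rfl
      rw [← Scheme.Hom.app_eq_appLE] at hfp
      letI := (i.app V₂).hom.toAlgebra
      haveI : Algebra.FinitePresentation Γ(X, V₂) Γ(Y, i ⁻¹ᵁ V₂) := hfp
      exact Algebra.FinitePresentation.ker_fG_of_surjective (Algebra.ofId Γ(X, V₂) Γ(Y, i ⁻¹ᵁ V₂)) T₂.surjY
    obtain ⟨r, f, hf⟩ := Submodule.fg_iff_exists_fin_generating_family.1 hfg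
    exact ⟨r, V₂, T₂, hz₂, fun y hy => hpre₁ (hle1 hy), hle1.trans hk₁, hle1.trans hi₁, hle₂.trans inf_le_right,
      hkos, f, hf.symm⟩
  let r := Nat.find hex
  obtain ⟨V, T, hzV, hVO, hVk, hVi, hVU₀, hkos, f, hkf⟩ := Nat.find_spec hex
  let P : Ideal Γ(X, V) := (T.affU.primeIdealOf ⟨i (j z), hzV⟩).asIdeal
  have hP : RingHom.ker ((j ≫ i).app V).hom ≤ P := by
    intro p hp
    by_contra hna
    have hz : z ∈ Z.basicOpen (((j ≫ i).app V).hom p) := by
      rw [← (j ≫ i).preimage_basicOpen]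
      exact (RegKindDescLib.mem_basicOpen_iff T.affU ⟨i (j z), hzV⟩ p).1 hna
    rw [RingHom.mem_ker.1 hp, Scheme.basicOpen_zero] at hz
    exact hz
  have hcV : IsClosedImmersion (i ∣_ V) := RegKindDescLib.isClosedImmersion_restrict i V hVi
  -- minimality
  have hmin : ∀ x : Fin (Nat.find hex) → Γ(X, V), ∑ m, x m * f m = 0 → ∀ m, x m ∈ P := by
    intro x hx m
    by_contra hm
    have hpos : 0 < Nat.find hex := Fin.pos m
    obtain ⟨r', hr'⟩ : ∃ r', Nat.find hex = r' + 1 := ⟨Nat.find hex - 1, by omega⟩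
    refine Nat.find_min hex (show r' < Nat.find hex by omega) ?_
    let D := X.basicOpen (x m)
    have hle : D ≤ V := X.basicOpen_le _
    let ρ := ((𝟙 X : X ⟶ X).appLE V D hle).hom
    refine ⟨D, ConormalLib.tower_of_le j i (T.affU.basicOpen _) (hle.trans hVk) (hle.trans hVi),
      (RegKindDescLib.mem_basicOpen_iff T.affU ⟨i (j z), hzV⟩ (x m)).1 hm, fun y hy => hVO (hle hy),
      hle.trans hVk, hle.trans hVi, hle.trans hVU₀, fun h => ?_,
      fun t => ρ (f (Fin.cast hr'.symm ((Fin.cast hr' m).succAbove t))), ?_⟩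
    · obtain ⟨l, hl, hkl⟩ := hkos h
      refine ⟨l.map ρ, RelDivLib.seq_flat ρ (flat_res T.affU (T.affU.basicOpen _) hle) .koszul (by decide) hl, ?_⟩
      rw [ker_res i T.affU hcV (T.affU.basicOpen _) hle, hkl, Ideal.map_ofList]
    · rw [ker_res i T.affU hcV (T.affU.basicOpen _) hle, hkf, Ideal.map_span]
      refine le_antisymm (Ideal.span_le.2 ?_) (Ideal.span_mono ?_)
      · rintro _ ⟨_, ⟨p, rfl⟩, rfl⟩
        by_cases hpm : p = m
        · subst hpm
          refine (Ideal.unit_mul_mem_iff_mem _ (isUnit_res (x p) hle)).1 ?_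
          rw [← map_mul, show x p * f p = - ∑ q ∈ Finset.univ.erase p, x q * f q by
            rw [eq_neg_iff_add_eq_zero]; exact (Finset.add_sum_erase _ (fun q => x q * f q) (Finset.mem_univ p)).trans hx, map_neg, map_sum]
          refine neg_mem (Ideal.sum_mem _ fun q hq => ?_)
          rw [map_mul]
          refine Ideal.mul_mem_left _ _ ?_
          obtain ⟨t, ht⟩ := Fin.exists_succAbove_eq (x := Fin.cast hr' q) (y := Fin.cast hr' p)
            (fun h => (Finset.mem_erase.1 hq).1 (Fin.ext (congrArg Fin.val h :)))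
          exact Ideal.subset_span ⟨t, by simp only [ht]; rfl⟩
        · obtain ⟨t, ht⟩ := Fin.exists_succAbove_eq (x := Fin.cast hr' p) (y := Fin.cast hr' m)
            (fun h => hpm (Fin.ext (congrArg Fin.val h :)))
          exact Ideal.subset_span ⟨t, by simp only [ht]; rfl⟩
      · rintro _ ⟨t, rfl⟩
        exact ⟨_, ⟨_, rfl⟩, rfl⟩
  let ρ₀ := ((𝟙 X : X ⟶ X).appLE U₀ V hVU₀).hom
  let hs := hs₀.map ρ₀
  have hhs : k.Seq _ hs := RelDivLib.seq_flat ρ₀ (flat_res hU₀ T.affU hVU₀) k hk hhs₀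
  have hkh : RingHom.ker ((j ≫ i).app V).hom = Ideal.ofList hs := by
    rw [ker_res (j ≫ i) hU₀ hc₀ T.affU hVU₀, hker₀, Ideal.map_ofList]
  obtain ⟨R, hR'⟩ := hR _ hVO
  let fs := List.ofFn f
  have hkfs : RingHom.ker (i.app V).hom = Ideal.span (Set.range fs.get) := by
    rw [RegKindDescLib.range_get, RegIdealLib.ofList_ofFn, hkf]
  obtain ⟨c, d, hc, hcd⟩ := exists_coeff_sum T ha R hR' hkfs
    (h := hs.get) (by rw [RegKindDescLib.range_get]; exact hkh)
  have hlen : fs.length = Nat.find hex := List.length_ofFn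
  have hcd' : ∀ p m, (∑ l, c p l * d l m) - (if p = m then 1 else 0) ∈ P := by
    intro p m
    have h1 := hcd p
    rw [hkfs] at h1
    obtain ⟨b, hb, hbe⟩ := (Submodule.mem_ideal_smul_span_iff_exists_sum (R := Γ(X, V)) _ fs.get _).1 h1
    rw [Finsupp.sum_fintype b (fun i c => c • fs.get i) (fun i => zero_smul _ (fs.get i))] at hbe
    let e : Fin fs.length → Γ(X, V) := fun m => (∑ l, c p l * d l m) - (if p = m then 1 else 0) - b m
    have he : ∑ m, e m * fs.get m = 0 := by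
      simp only [e, sub_mul, Finset.sum_sub_distrib] at hbe ⊢
      rw [← hbe]
      simp [smul_eq_mul]
    have h2 := hmin (fun q => e (Fin.cast hlen.symm q)) (by
      rw [← he, ← (finCongr hlen).sum_comp]
      exact Finset.sum_congr rfl fun q _ => by simp [fs]; rfl) (Fin.cast hlen m)
    have h4 := add_mem h2 (hP (hb m))
    simpa [e] using h4
  have hfs : k = RegImm.Kind.koszul → LCI.IsKoszulRegularSeq _ fs := fun h => by
    obtain ⟨l, hl, hkl⟩ := hkos h
    refine CILib.isKoszulRegularSeq_of_ofList_eq hl (by rw [RegIdealLib.ofList_ofFn, ← hkf, hkl]) ?_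
    rw [hlen]
    exact Nat.find_min' hex ⟨V, T, hzV, hVO, hVk, hVi, hVU₀, hkos, l.get, by
      rw [RegKindDescLib.range_get]; exact hkl⟩
  obtain ⟨s, hsP, g, hg⟩ := exists_quot k hk P hs fs hhs hfs c d hc hcd'
  have hD := T.affU.basicOpen s
  have hle : X.basicOpen s ≤ V := X.basicOpen_le s
  have TD := ConormalLib.tower_of_le j i hD (hle.trans hVk) (hle.trans hVi)
  have hkfs' : RingHom.ker (i.app V).hom = Ideal.ofList fs := by rw [RegIdealLib.ofList_ofFn, hkf]
  have hkfD : RingHom.ker (i.app (X.basicOpen s)).hom =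
      Ideal.ofList (fs.map ((𝟙 X : X ⟶ X).appLE V (X.basicOpen s) hle).hom) := by
    rw [ker_res i T.affU hcV hD hle, hkfs', Ideal.map_ofList]
  obtain ⟨hseq, hmap⟩ := hg _ _ (flat_res T.affU hD hle) (isUnit_res s hle) TD.surjY hkfD
  refine ⟨⟨i ⁻¹ᵁ X.basicOpen s, TD.affY⟩, (RegKindDescLib.mem_basicOpen_iff T.affU ⟨i (j z), hzV⟩ s).1 hsP, ?_, _,
    hseq, ?_⟩
  · haveI := RegKindDescLib.isClosedImmersion_restrict i _ (hle.trans hVi)
    haveI : IsClosedImmersion ((j ∣_ (i ⁻¹ᵁ X.basicOpen s)) ≫ (i ∣_ X.basicOpen s)) := by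
      rw [← morphismRestrict_comp]
      exact RegKindDescLib.isClosedImmersion_restrict (j ≫ i) _ (hle.trans hVk)
    exact IsClosedImmersion.of_comp (j ∣_ (i ⁻¹ᵁ X.basicOpen s)) (i ∣_ X.basicOpen s)
  · rw [← hmap, ← Ideal.map_ofList, ← hkh,
      ← ker_res (j ≫ i) T.affU (RegKindDescLib.isClosedImmersion_restrict (j ≫ i) V hVk) hD hle,
      ConormalLib.Tower.kerK, Ideal.map_comap_of_surjective _ TD.surjY]

end Groth.Agent.SplitQuotLib
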